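import Groth.Agent.Lib.AbRigid.FactorEtale
import Groth.Agent.Lib.GrpSmooth19.Basic
import Groth.Agent.S7785
import Mathlib.GroupTheory.OrderOfElement

/-!
# Connected étale isogenies of abelian varieties: basics
-/

open CategoryTheory Limits AlgebraicGeometry MonoidalCategory CartesianMonoidalCategory MonObj

set_option linter.style.haveILetI false
set_option backward.isDefEq.respectTransparency false

namespace Groth.Agent.AVCov25

universe u

variable {K : Type u} [Field K] [IsAlgClosed K]

/-- A connected reduced proper group scheme over an algebraically closed field is an abelian variety. -/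
theorem abVar_facts (G : Over (Spec (CommRingCat.of K))) [GrpObj G] [IsProper G.hom]
    [ConnectedSpace G.left] [IsReduced G.left] :
    Smooth G.hom ∧ GeometricallyIntegral G.hom ∧ IsCommMonObj G := by
  haveI := GrpSmooth19.smooth_of_isReduced G
  haveI := AbRigid.geometricallyReduced_of_smooth G.hom
  haveI := AbRigid.geometricallyIntegral_of_connected G
  haveI : GeometricallyConnected G.hom := ⟨fun _ _ y _ fst snd hsq => by
    haveI := GeometricallyIrreducible.geometrically_irreducibleSpace (f := G.hom) y fst snd hsq
    infer_instance⟩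
  exact ⟨inferInstance, inferInstance, Groth.Agent.S7785.result G⟩

/-- Rational points of the fibre over the unit of a finite morphism are its points. -/
noncomputable def kerPointsEquiv {Y A : Over (Spec (CommRingCat.of K))} [GrpObj A] (φ : Y ⟶ A)
    [IsFinite φ.left] :
    {P : 𝟙_ (Over (Spec (CommRingCat.of K))) ⟶ Y // P ≫ φ = η[A]} ≃ ↥(pullback φ.left η[A].left) :=
  let N := pullback φ.left η[A].left
  let g : N ⟶ Spec (CommRingCat.of K) := pullback.snd φ.left η[A].left
  haveI : IsFinite g := MorphismProperty.pullback_snd _ _ ‹IsFinite φ.left›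
  haveI : JacobsonSpace N := LocallyOfFiniteType.jacobsonSpace (Y := Spec _) g
  haveI : Finite N := by
    have := Scheme.Hom.finite_preimage_singleton g (IsLocalRing.closedPoint K)
    have h : g ⁻¹' {IsLocalRing.closedPoint K} = Set.univ :=
      Set.eq_univ_of_forall fun x => Subsingleton.elim (α := Spec (CommRingCat.of K)) _ _
    exact Set.finite_univ_iff.mp (h ▸ this)
  haveI : DiscreteTopology N := inferInstance
  let e1 : {P : 𝟙_ (Over (Spec (CommRingCat.of K))) ⟶ Y // P ≫ φ = η[A]} ≃
      {p : Spec (CommRingCat.of K) ⟶ N // p ≫ g = 𝟙 _} :=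
    { toFun := fun P => ⟨pullback.lift P.1.left (𝟙 _)
        ((congrArg (fun a => a.left) P.2 : _).trans (Category.id_comp _).symm), pullback.lift_snd _ _ _⟩
      invFun := fun p => ⟨Over.homMk (p.1 ≫ pullback.fst φ.left η[A].left) (by
          show (p.1 ≫ pullback.fst φ.left η[A].left) ≫ Y.hom = 𝟙 _
          rw [← Over.w φ, Category.assoc, pullback.condition_assoc, Over.w η[A]]
          erw [Category.comp_id]
          exact p.2), by
        ext1
        show (p.1 ≫ pullback.fst φ.left η[A].left) ≫ φ.left = η[A].left
        rw [Category.assoc, pullback.condition, ← Category.assoc]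
        erw [p.2]
        exact Category.id_comp _⟩
      left_inv := fun P => by
        ext1
        ext1
        exact pullback.lift_fst _ _ _
      right_inv := fun p => by
        ext1
        apply pullback.hom_ext
        · exact pullback.lift_fst _ _ _
        · exact (pullback.lift_snd _ _ _).trans p.2.symm }
  e1.trans ((pointEquivClosedPoint g).trans
    (Equiv.subtypeUnivEquiv fun x => isClosed_discrete _))

/-- The rational kernel of a homomorphism of degree `d` is killed by `d`. -/
theorem pow_card_eq_one_of_comp {Y A : Over (Spec (CommRingCat.of K))} [GrpObj Y] [GrpObj A] (φ : Y ⟶ A)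
    [IsMonHom φ] [IsFinite φ.left] (n : ℕ) (hn : Nat.card ↥(pullback φ.left η[A].left) ∣ n)
    (P : 𝟙_ (Over (Spec (CommRingCat.of K))) ⟶ Y) (hP : P ≫ φ = η[A]) : P ^ n = 1 := by
  let F : (𝟙_ (Over (Spec (CommRingCat.of K))) ⟶ Y) →* (𝟙_ (Over (Spec (CommRingCat.of K))) ⟶ A) :=
    { toFun := fun Q => Q ≫ φ
      map_one' := MonObj.one_comp φ
      map_mul' := fun Q R => MonObj.mul_comp Q R φ }
  have hη : η[A] = (1 : 𝟙_ (Over (Spec (CommRingCat.of K))) ⟶ A) := MonObj.one_eq_one A
  have e : F.ker ≃ {P : 𝟙_ (Over (Spec (CommRingCat.of K))) ⟶ Y // P ≫ φ = η[A]} :=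
    Equiv.subtypeEquivRight fun Q => by rw [hη]; rfl
  have hc : Nat.card F.ker = Nat.card ↥(pullback φ.left η[A].left) :=
    Nat.card_congr (e.trans (kerPointsEquiv φ))
  have h1 : (⟨P, hP.trans hη⟩ : F.ker) ^ n = 1 := by
    obtain ⟨m, rfl⟩ := hn
    rw [← hc, pow_mul, pow_card_eq_one', one_pow]
  exact congrArg Subtype.val h1

end Groth.Agent.AVCov25
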