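import Groth.Agent.Lib.AbRigid.Connected
import Groth.Agent.Lib.AbRigid.SmoothGI
import Groth.Agent.Lib.VB17.Setup
import Groth.Agent.Lib.GeomIrr18.Top
import Groth.Agent.Lib.AbSchRigid22.Basic
import Groth.Agent.Lib.Stein6.GeomUnibranch
import Groth.Agent.Lib.UnivOpenFin5.Normal
import Groth.Agent.Lib.FEtEq25.Points

/-!
# Connectedness of fibres of a proper family with a section, and étale covers of connected schemes
-/

open CategoryTheory Limits AlgebraicGeometry TopologicalSpace

set_option linter.style.haveILetI false
set_option backward.isDefEq.respectTransparency false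

namespace Groth.Agent.AVCov25

universe u

/-- Connected components of a Noetherian space are open. -/
theorem isClopen_component {α : Type*} [TopologicalSpace α] [NoetherianSpace α] (x : α) :
    IsClopen (connectedComponent x) := by
  refine ⟨isClosed_connectedComponent, ?_⟩
  have : connectedComponent x =
      (⋃ D ∈ {D ∈ irreducibleComponents α | ¬ D ⊆ connectedComponent x}, D)ᶜ := by
    ext y
    simp only [Set.mem_compl_iff, Set.mem_iUnion, not_exists]
    refine ⟨fun hy D hD hyD => hD.2 ?_, fun h => ?_⟩
    · rw [connectedComponent_eq hy]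
      exact hD.1.1.isConnected.subset_connectedComponent hyD
    · by_contra hy
      exact h (irreducibleComponent y) ⟨irreducibleComponent_mem_irreducibleComponents y,
        fun hs => hy (hs mem_irreducibleComponent)⟩ mem_irreducibleComponent
  rw [this]
  exact ((NoetherianSpace.finite_irreducibleComponents.subset fun D hD => hD.1).isClosed_biUnion
    fun D hD => isClosed_of_mem_irreducibleComponents D hD.1).isOpen_compl

/-- A connected scheme, smooth and proper over an algebraically closed field, is integral and normal. -/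
theorem smooth_proper_facts {K : Type u} [Field K] [IsAlgClosed K] {X : Scheme.{u}}
    (f : X ⟶ Spec (CommRingCat.of K)) [IsProper f] [Smooth f] [ConnectedSpace X] :
    IsIntegral X ∧ GeometricallyConnected f ∧
      ∀ x : X, CAlg2.IsGeomUnibranch (X.presheaf.stalk x) := by
  letI : X.Over (Spec (CommRingCat.of K)) := ⟨f⟩
  have hgc : GeometricallyConnected f := ⟨fun L _ y Z fst snd hsq => by
    haveI := AbRigid.connectedSpace_pullback_of_isAlgClosed (K := K) f y
    exact (hsq.isoPullback.hom.homeomorph.symm).surjective.connectedSpace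
      (hsq.isoPullback.hom.homeomorph.symm).continuous⟩
  haveI : GeometricallyConnected (X ↘ Spec (CommRingCat.of K)) := hgc
  haveI : IsProper (X ↘ Spec (CommRingCat.of K)) := ‹IsProper f›
  haveI : Smooth (X ↘ Spec (CommRingCat.of K)) := ‹Smooth f›
  refine ⟨VB17.isIntegral_of_smooth (k := K), hgc, fun x => ?_⟩
  haveI := SmoothReg17.isDomain_stalk f x
  haveI := SmoothReg17.isIntegrallyClosed_stalk f x
  exact UnivOpenFin5.isGeomUnibranch_of_normal _

/-- A proper family of an integral scheme over a normal base with a section has geometrically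
connected fibres. -/
theorem geometricallyConnected_of_integral_section {X S : Scheme.{u}} (f : X ⟶ S) [IsProper f]
    [IsIntegral X] [IsIntegral S] (hS : ∀ s : S, CAlg2.IsGeomUnibranch (S.presheaf.stalk s))
    (σ : S ⟶ X) (hσ : σ ≫ f = 𝟙 S) : GeometricallyConnected f := by
  have hsurj : Function.Surjective f := fun s => ⟨σ s, by rw [← Scheme.Hom.comp_apply, hσ]; rfl⟩
  haveI : Surjective f := ⟨hsurj⟩
  refine Stein6.geometricallyConnected_of_geomUnibranch f hS ?_
  set η := genericPoint S
  have hη : f (genericPoint X) = η := by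
    have h : f (genericPoint X) ⤳ η := Stein6.genericPoint_specializes f
    exact (h.antisymm (genericPoint_specializes _)).eq
  haveI : ConnectedSpace ↥(f.fiber η) := by
    have hc : _root_.IsConnected (f ⁻¹' {η}) := by
      refine (isConnected_singleton (x := genericPoint X)).subset_closure ?_ ?_
      · rintro _ rfl; exact hη
      · intro y _; exact specializes_iff_mem_closure.1 (genericPoint_specializes y)
    haveI : ConnectedSpace (f ⁻¹' {η}) := isConnected_iff_connectedSpace.1 hc
    exact (f.fiberHomeo η).symm.surjective.connectedSpace (f.fiberHomeo η).symm.continuous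
  let g : Spec (S.residueField η) ⟶ f.fiber η :=
    pullback.lift (S.fromSpecResidueField η ≫ σ) (𝟙 _) (by rw [Category.assoc, hσ]; simp)
  have hg : g ≫ f.fiberToSpecResidueField η = 𝟙 (Spec (S.residueField η)) := pullback.lift_snd _ _ _
  haveI : GeometricallyConnected (g ≫ f.fiberToSpecResidueField η) := by
    rw [hg]; exact AbSchRigid22.geometricallyConnected_id _
  exact GeomIrr.geometricallyConnected_of_hom (k := S.residueField η) (f.fiberToSpecResidueField η) g
    (Nonempty.some inferInstance)

/-- Maps from a connected scheme to a finite étale scheme agreeing at a point are equal. -/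
theorem eq_of_agree {X V W : Scheme.{u}} [ConnectedSpace V] (g : W ⟶ X) [IsFinite g] [Etale g]
    (a b : V ⟶ W) (h : a ≫ g = b ≫ g) {K : Type u} [Field K] (s : Spec (CommRingCat.of K) ⟶ V)
    (hs : s ≫ a = s ≫ b) : a = b :=
  FEtEq25.eq_of_eqLocusSet g a b h fun _ =>
    ((FEtEq25.isClopen_eqLocusSet g a b h).eq_univ
      ⟨_, FEtEq25.mem_eqLocusSet_of_eq g a b h s hs⟩).symm.subset (Set.mem_univ _)

/-- A finite étale map onto a connected scheme with a one element geometric fibre is an isomorphism. -/
theorem isIso_of_unique {X W : Scheme.{u}} [PreconnectedSpace X] (g : W ⟶ X) [hF : IsFinite g] [hE : Etale g]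
    {K : Type u} [Field K] [IsAlgClosed K] (ξ : Spec (CommRingCat.of K) ⟶ X)
    (hex : ∃ s, s ≫ g = ξ) (huniq : ∀ s t, s ≫ g = ξ → t ≫ g = ξ → s = t) : IsIso g := by
  let Z : FEt.Cat X := MorphismProperty.Over.mk ⊤ g ⟨hF, hE⟩
  let I : FEt.Cat X := MorphismProperty.Over.mk ⊤ (𝟙 X) ⟨inferInstance, inferInstance⟩
  let φ : Z ⟶ I := MorphismProperty.Over.homMk g (Category.comp_id g)
  haveI : IsIso φ := by
    refine FEtEq25.isIso_of_bijective_fibre ξ φ ⟨fun s t _ => Subtype.ext (huniq _ _ s.2 t.2), fun t => ?_⟩
    obtain ⟨s, hs⟩ := hex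
    refine ⟨⟨s, hs⟩, Subtype.ext ?_⟩
    show s ≫ g = t.1
    exact hs.trans (t.2.symm.trans (Category.comp_id _))
  exact inferInstanceAs (IsIso ((MorphismProperty.Over.forget FEt.prop ⊤ X ⋙ Over.forget X).map φ))

end Groth.Agent.AVCov25
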