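import Groth.Agent.Lib.AVCov25.Basic

/-!
# Connected reduced families in the fibre of a finite étale morphism over the unit are constant
-/

open CategoryTheory Limits AlgebraicGeometry MonoidalCategory CartesianMonoidalCategory MonObj

set_option linter.style.haveILetI false
set_option backward.isDefEq.respectTransparency false

namespace Groth.Agent.AVCov25

universe u

variable {K : Type u} [Field K] [IsAlgClosed K]

/-- A finite scheme over a field is discrete. -/
theorem discreteTopology_of_finite {N : Scheme.{u}} (g : N ⟶ Spec (CommRingCat.of K)) [IsFinite g] :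
    DiscreteTopology N := by
  haveI : JacobsonSpace N := LocallyOfFiniteType.jacobsonSpace (Y := Spec _) g
  haveI : Finite N := by
    have := Scheme.Hom.finite_preimage_singleton g (IsLocalRing.closedPoint K)
    have h : g ⁻¹' {IsLocalRing.closedPoint K} = Set.univ :=
      Set.eq_univ_of_forall fun x => Subsingleton.elim (α := Spec (CommRingCat.of K)) _ _
    exact Set.finite_univ_iff.mp (h ▸ this)
  infer_instance

/-- A map from a connected reduced scheme to a finite scheme over an algebraically closed field
factors through a rational point. -/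
theorem exists_point_of_connected {N T : Scheme.{u}} (g : N ⟶ Spec (CommRingCat.of K)) [IsFinite g]
    [IsReduced T] [ConnectedSpace T] (p : T ⟶ N) :
    ∃ c : Spec (CommRingCat.of K) ⟶ N, c ≫ g = 𝟙 _ ∧ p = (p ≫ g) ≫ c := by
  haveI : DiscreteTopology N := discreteTopology_of_finite g
  obtain ⟨t⟩ : Nonempty T := inferInstance
  have hx : IsClosed ({p t} : Set N) := isClosed_discrete _
  refine ⟨pointOfClosedPoint g (p t) hx, pointOfClosedPoint_comp _ _ _, ?_⟩
  set c := pointOfClosedPoint g (p t) hx with hc
  haveI : IsClosedImmersion c :=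
    isClosedImmersion_of_comp_eq_id (Y := Spec (.of K)) g c (pointOfClosedPoint_comp _ _ _)
  have hconst : ∀ s : T, p s = p t := fun s => by
    by_contra h
    have hcl : IsClopen (p ⁻¹' {p t}) :=
      ⟨hx.preimage p.continuous, (isOpen_discrete _).preimage p.continuous⟩
    exact h ((hcl.eq_univ ⟨t, rfl⟩).symm.subset (Set.mem_univ s) : s ∈ p ⁻¹' {p t})
  haveI : Surjective (pullback.fst p c) := ⟨fun s => by
    have : c (IsLocalRing.closedPoint K) = p t := pointOfClosedPoint_apply _ _ _ _
    obtain ⟨z, hz, -⟩ := Scheme.Pullback.exists_preimage_pullback (f := p) (g := c) s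
      (IsLocalRing.closedPoint K) ((hconst s).trans this.symm)
    exact ⟨z, hz⟩⟩
  haveI : IsIso (pullback.fst p c) := isIso_of_isClosedImmersion_of_surjective _
  have e : (inv (pullback.fst p c) ≫ pullback.snd p c) ≫ c = p := by
    rw [Category.assoc, ← pullback.condition, IsIso.inv_hom_id_assoc]
  have e' : inv (pullback.fst p c) ≫ pullback.snd p c = p ≫ g := by
    conv_rhs => rw [← e, Category.assoc, pointOfClosedPoint_comp, Category.comp_id]
  rw [← e']; exact e.symm

/-- A connected reduced family of points in the fibre over the unit of a finite morphism is constant. -/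
theorem exists_eq_toUnit_comp {T Y A : Over (Spec (CommRingCat.of K))} [GrpObj A] (φ : Y ⟶ A)
    [IsFinite φ.left] [IsReduced T.left] [ConnectedSpace T.left]
    (h : T ⟶ Y) (hh : h ≫ φ = toUnit T ≫ η[A]) :
    ∃ a : 𝟙_ (Over (Spec (CommRingCat.of K))) ⟶ Y, a ≫ φ = η[A] ∧ h = toUnit T ≫ a := by
  have hh' : h.left ≫ φ.left = T.hom ≫ η[A].left := congrArg (fun a => a.left) hh
  haveI : IsFinite (pullback.snd φ.left η[A].left) :=
    MorphismProperty.pullback_snd _ _ ‹IsFinite φ.left›
  let p : T.left ⟶ pullback φ.left η[A].left := pullback.lift h.left T.hom hh'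
  obtain ⟨c, hc, hp⟩ := exists_point_of_connected (pullback.snd φ.left η[A].left) p
  rw [show p ≫ pullback.snd φ.left η[A].left = T.hom from pullback.lift_snd _ _ _] at hp
  let a : 𝟙_ (Over (Spec (CommRingCat.of K))) ⟶ Y := Over.homMk (c ≫ pullback.fst φ.left η[A].left) (by
    show (c ≫ pullback.fst φ.left η[A].left) ≫ Y.hom = 𝟙 _
    rw [← Over.w φ, Category.assoc, pullback.condition_assoc, Over.w η[A]]
    erw [Category.comp_id]
    exact hc)
  refine ⟨a, ?_, ?_⟩
  · ext1
    show (c ≫ pullback.fst φ.left η[A].left) ≫ φ.left = η[A].left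
    rw [Category.assoc, pullback.condition, ← Category.assoc]
    erw [hc]
    exact Category.id_comp _
  · ext1
    show h.left = T.hom ≫ c ≫ pullback.fst φ.left η[A].left
    rw [← Category.assoc, ← hp]
    exact (pullback.lift_fst _ _ _).symm

end Groth.Agent.AVCov25
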